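import Cfsg.Agent.Lib.HNRecog.End.Dihedral

/-!
The end game: a finite simple group containing the image of `P` with the centraliser of `t` inside it, and the
finite facts about two commuting classes of `P`, is equal to the image.
-/

set_option autoImplicit false

namespace Cfsg.Agent.HNRecog.End

universe u v

/-- The facts inside `P`. -/
structure Facts {P : Type u} [Group P] (T0 W0 V1 b b0 : P) : Prop where
  T_ord : orderOf T0 = 2
  W_ord : orderOf W0 = 2
  V_ord : orderOf V1 = 2
  TW : Commute T0 W0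
  TV : Commute T0 V1
  VW : Commute V1 W0
  nV : ¬IsConj T0 V1
  nVW : ¬IsConj T0 (V1 * W0)
  TW_conj : IsConj T0 (T0 * W0)
  nTV : ¬IsConj T0 (T0 * V1)
  nTVW : ¬IsConj T0 (T0 * (V1 * W0))
  b_conj : IsConj T0 b
  bV : Commute b V1
  bW : Commute b W0
  b_VW : IsConj T0 (b * (V1 * W0))
  nbV : ¬IsConj T0 (b * V1)
  nbW : ¬IsConj T0 (b * W0)
  b0_conj : IsConj T0 b0
  b0W : Commute b0 W0
  nb0W : ¬IsConj T0 (b0 * W0)
  classes : ∀ y : P, orderOf y = 2 → IsConj T0 y ∨ IsConj W0 y
  four : ∀ z : P, orderOf z = 2 → Commute z T0 → Commute z W0 → z ≠ W0 → IsConj T0 (T0 * z) →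
    ¬IsConj T0 z → ¬IsConj T0 (z * W0) → ∃ g : P, g * W0 * g⁻¹ = V1 ∧ g * z * g⁻¹ = W0
  eight : ∀ z : P, orderOf z = 2 → z ≠ V1 → z ≠ W0 → z ≠ V1 * W0 → Commute z T0 → Commute z V1 →
    Commute z W0 → IsConj T0 (T0 * z) → ¬IsConj T0 z → ¬IsConj T0 (z * V1) → ¬IsConj T0 (z * W0) →
    ¬IsConj T0 (z * (V1 * W0)) → ∀ s : P, IsConj T0 s → Commute s V1 → Commute s W0 → Commute s z →
    IsConj T0 (s * (V1 * W0)) → ¬IsConj T0 (s * V1) → ¬IsConj T0 (s * W0) → False

variable {P : Type u} [Group P] {G : Type v} [Group G] [Finite G] {T0 W0 V1 b b0 : P}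

/-- The image of `P` and what is known about it in `G`. -/
structure Setting (D : Facts T0 W0 V1 b b0) (F : P →* G) : Prop where
  inj : Function.Injective F
  cent : Subgroup.centralizer ({F T0} : Set G) ≤ F.range
  nconj : ¬IsConj (F T0) (F W0)

namespace Setting

variable {D : Facts T0 W0 V1 b b0} {F : P →* G} (S : Setting D F)

include S

theorem orderOf_F (y : P) : orderOf (F y) = orderOf y := orderOf_injective F S.inj y

theorem commute_F {x y : P} : Commute (F x) (F y) ↔ Commute x y := by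
  refine ⟨fun h => S.inj ?_, fun h => h.map F⟩
  rw [map_mul, map_mul]; exact h.eq

/-- Fusion in `G` of involutions of the image is fusion in `P`. -/
theorem conj_iff {y : P} (hy : orderOf y = 2) : IsConj (F T0) (F y) ↔ IsConj T0 y := by
  refine ⟨fun h => ?_, fun h => F.map_isConj h⟩
  rcases D.classes y hy with h' | h'
  · exact h'
  · exact absurd (h.trans (F.map_isConj h').symm) S.nconj

theorem cent_conj {y : P} (hy : IsConj T0 y) : Subgroup.centralizer ({F y} : Set G) ≤ F.range := by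
  obtain ⟨c, rfl⟩ := isConj_iff.1 hy
  intro g hg
  rw [Subgroup.mem_centralizer_singleton_iff] at hg
  have h : (F c)⁻¹ * g * F c ∈ F.range := S.cent (by
    rw [Subgroup.mem_centralizer_singleton_iff]
    calc (F c)⁻¹ * g * F c * F T0 = (F c)⁻¹ * (g * F (c * T0 * c⁻¹)) * F c := by
          rw [map_mul, map_mul, map_inv]; group
      _ = (F c)⁻¹ * (F (c * T0 * c⁻¹) * g) * F c := by rw [hg]
      _ = F T0 * ((F c)⁻¹ * g * F c) := by rw [map_mul, map_mul, map_inv]; group)
  have := F.range.mul_mem (F.range.mul_mem ⟨c, rfl⟩ h) (F.range.inv_mem ⟨c, rfl⟩)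
  simpa [mul_assoc] using this

/-- An element fixing an involution of the class of `t` in the image lies in the image. -/
theorem mem_of_commute {x g : G} (hx : x ∈ F.range) (ht : IsConj (F T0) x) (hg : Commute g x) :
    g ∈ F.range := by
  obtain ⟨y, rfl⟩ := hx
  have hy : orderOf y = 2 := by
    obtain ⟨c, hc⟩ := isConj_iff.1 ht
    rw [← S.orderOf_F y, ← hc]
    exact ((MulAut.conj c).orderOf_eq _).trans ((S.orderOf_F _).trans D.T_ord)
  exact S.cent_conj ((S.conj_iff hy).1 ht) (Subgroup.mem_centralizer_singleton_iff.2 hg.eq)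

/-- An element moving an involution of the class of `t` in the image into the image lies in it. -/
theorem mem_of_conj {x g : G} (hx : x ∈ F.range) (ht : IsConj (F T0) x) (hg : g * x * g⁻¹ ∈ F.range) :
    g ∈ F.range := by
  obtain ⟨y, rfl⟩ := hx
  obtain ⟨y', hy'⟩ := hg
  have hord : ∀ {p : P}, IsConj (F T0) (F p) → orderOf p = 2 := fun {p} h => by
    obtain ⟨c, hc⟩ := isConj_iff.1 h
    rw [← S.orderOf_F p, ← hc]
    exact ((MulAut.conj c).orderOf_eq _).trans ((S.orderOf_F _).trans D.T_ord)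
  have ht' : IsConj (F T0) (F y') := ht.trans (isConj_iff.2 ⟨g, hy'.symm⟩)
  obtain ⟨c, hc⟩ := isConj_iff.1
    (((S.conj_iff (hord ht)).1 ht).symm.trans ((S.conj_iff (hord ht')).1 ht'))
  have h : (F c)⁻¹ * g ∈ F.range := S.mem_of_commute ⟨y, rfl⟩ ht (by
    have e : g * F y * g⁻¹ = F c * F y * (F c)⁻¹ := by rw [← hy', ← hc, map_mul, map_mul, map_inv]
    show (F c)⁻¹ * g * F y = F y * ((F c)⁻¹ * g)
    calc (F c)⁻¹ * g * F y = (F c)⁻¹ * (g * F y * g⁻¹) * g := by group
      _ = _ := by rw [e]; group)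
  simpa [mul_assoc] using F.range.mul_mem ⟨c, rfl⟩ h

end Setting

end Cfsg.Agent.HNRecog.End
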