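import Cfsg.Agent.Lib.HNRecog.Classes.Core
import Cfsg.Agent.Lib.HNRecog.Assign.Main

/-!
Inside the presented group: the class of every involution of the tabled Sylow subgroup of the centraliser of
`T0` is read off the table.
-/

set_option autoImplicit false
set_option maxRecDepth 100000

namespace Cfsg.Agent.HNRecog.End

open Cfsg.Agent.HN

noncomputable section

theorem finite_P : Finite Cfsg.Spor.HN := HN.finite_HN HN.Dat.xok

theorem simple_P : IsSimpleGroup Cfsg.Spor.HN := HN.isSimple HN.Dat.xok HN.Dat.defsOK HN.Dat.maxOK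

theorem psi_inj : Function.Injective psiHN := HN.psiHN_injective HN.Dat.xok

theorem cent_T {g : Cfsg.Spor.HN} : Commute g Classes.T0 ↔ g ∈ psiHN.range := Cfsg.Agent.HNOut.cent_x2

/-- The presented group with `T0` is an instance of the local situation. -/
def local_P : Twisted Classes.T0 where
  ψ := psiHN
  twist := false
  inj := psi_inj
  range g := by
    rw [Subgroup.mem_centralizer_singleton_iff]
    exact cent_T.trans MonoidHom.mem_range
  map_sq := rfl
  mul_in a b _ := (map_mul psiHN a b).symm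
  mul_out a b _ _ := by rw [map_mul]; exact (mul_one _).symm

theorem orderOf_T : orderOf Classes.T0 = 2 := by
  haveI : Fact (Nat.Prime 2) := ⟨Nat.prime_two⟩
  rw [Classes.T0, orderOf_injective psiHN psi_inj]
  refine orderOf_eq_prime ?_ hx_sq_ne
  obtain ⟨hT, -, -, e, -, -, -, s, -⟩ := special_spec
  rw [← e, sq, (sq_one_iff hT).2 s]

theorem not_conj_TW : ¬IsConj Classes.T0 Classes.W0 := by
  haveI := finite_P
  exact local_P.not_conj_AT

/-- The class of `T0` among the five tabled classes. -/
def isT (r : ℕ) : Bool := Nat.beq r 0 || (Nat.beq r 1 || Nat.beq r 3)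

/-- The tabled entries of the class of `T0`. -/
theorem class_entry {i : ℕ} (hi : i < 2048) (h0 : i ≠ 0) (hs : sqI i = 0) :
    IsConj Classes.T0 (psiHN (eS i)) ↔ isT (clsI i) = true := by
  haveI := finite_P
  haveI := simple_P
  obtain ⟨q, hq1, hq2, -⟩ := local_P.exists_swap orderOf_T
  let K : Assign.Ctx Cfsg.Spor.HN :=
    ⟨psiHN, psi_inj, fun g hg => MonoidHom.mem_range.1 (cent_T.1 hg), not_conj_TW, q, hq1, hq2⟩
  obtain ⟨h3, h4⟩ := K.classes
  obtain ⟨hr, -, he⟩ := wit_spec hi h0 hs
  have hconj : IsConj (psiHN (eS (Dat.reps.getD (clsI i) 0))) (psiHN (eS i)) := by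
    refine isConj_iff.2 ⟨(psiHN (el (conjI i)))⁻¹, ?_⟩
    rw [inv_inv, ← map_inv, ← map_mul, ← map_mul, he]
  obtain ⟨-, -, -, eT, -, -, -, -, -, -, -, e0, e1, e2, -, -⟩ := special_spec
  have key : IsConj Classes.T0 (psiHN (eS (Dat.reps.getD (clsI i) 0))) ↔ isT (clsI i) = true := by
    generalize clsI i = r at hr
    interval_cases r
    · rw [e0, eT]; exact iff_of_true (IsConj.refl _) rfl
    · rw [e1]; exact iff_of_true (isConj_iff.2 ⟨q, hq1⟩) rfl
    · rw [e2]; exact iff_of_false not_conj_TW Bool.false_ne_true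
    · exact iff_of_true h3 rfl
    · exact iff_of_false h4 Bool.false_ne_true
  exact ⟨fun h => key.1 (h.trans hconj.symm), fun h => (key.2 h).trans hconj⟩

end

end Cfsg.Agent.HNRecog.End
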