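import Cfsg.Agent.Lib.HNRecog.End.Table
import Cfsg.Agent.Lib.HNRecog.End.Basic

/-!
The four-group of the second class, the involutions of the first class with prescribed profiles on it, and the
facts of the end game given the classification of involutions and the two statements about four-groups.
-/

set_option autoImplicit false
set_option maxRecDepth 100000

namespace Cfsg.Agent.HNRecog.End

open Cfsg.Agent.HN

noncomputable section

/-- The second generator of the four-group. -/
def V1 : Cfsg.Spor.HN := psiHN (eS 48)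

/-- A word of an element commuting with `a t` that moves entry 48 to entry 1862. -/
def hW : List ℕ := [4, 2, 0, 2, 4, 2, 0, 4, 3, 3, 4, 3, 1, 2, 1, 2, 1, 3, 1, 3, 0, 2, 1, 3, 3, 4, 2, 2, 4, 2, 1, 3, 1, 3, 3, 3, 4, 1, 2, 4, 2, 0, 2, 1, 3, 3, 4, 2, 2, 4, 2, 1, 3, 1, 3, 3, 3, 4, 1, 2, 4, 2]

/-- The involution with the profile opposite to that of `T0`. -/
def bb : Cfsg.Spor.HN := psiHN (el hW * eS 338 * (el hW)⁻¹)

/-- An involution of the first class with a product of the second class with `W0`. -/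
def b0 : Cfsg.Spor.HN := psiHN (eS 1)

/-- The products read from the table. -/
def okProds : Bool :=
  [(48, 204, 60), (1905, 204, 860), (1905, 48, 269), (1905, 60, 303), (1, 204, 313), (1862, 204, 1860),
    (338, 1860, 1225), (338, 1862, 1917), (338, 204, 589)].all fun p =>
    Nat.beq (actK (wd p.2.1) (kd p.1)) (kd p.2.2)

/-- The conjugating word. -/
def okWord62 : Bool :=
  letOK 5 hW && eqH (winv iv5 hW ++ wd 48 ++ hW) (wd 1862) && eqH (hW ++ wd 204) (wd 204 ++ hW)

theorem special_values : iT = 1905 ∧ iAT = 204 := by decide +kernel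

theorem orderOf_entry {i : ℕ} (hi : i < 2048) (h0 : i ≠ 0) (hs : sqI i = 0) : orderOf (psiHN (eS i)) = 2 := by
  haveI : Fact (Nat.Prime 2) := ⟨Nat.prime_two⟩
  rw [orderOf_injective psiHN psi_inj]
  refine orderOf_eq_prime (by rw [sq, (sq_one_iff hi).2 hs]) fun e => h0 ?_
  exact eS_injective hi (by norm_num) (e.trans eS_zero.symm)

theorem commute_entry {i j : ℕ} (hi : i < 2048) (hj : j < 2048) (h : commI i j = true) :
    Commute (psiHN (eS i)) (psiHN (eS j)) :=
  Commute.map (show Commute (eS i) (eS j) from (commI_iff hi hj).1 h) psiHN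

theorem mul_entry {i j k : ℕ} (hi : i < 2048) (hj : j < 2048) (hk : k < 2048)
    (h : Nat.beq (actK (wd j) (kd i)) (kd k) = true) :
    psiHN (eS i) * psiHN (eS j) = psiHN (eS k) := by
  rw [← map_mul, (mul_eq_iff hi hj hk).1 (Nat.beq_eq ▸ h)]

theorem prods_ok : okProds = true := by decide +kernel

theorem word62_ok : okWord62 = true := by decide +kernel

/-- The entries used, with their kinds. -/
theorem kinds_ok : ([1905, 860, 338, 1225, 1].all fun i => !Nat.beq i 0 && Nat.beq (sqI i) 0 && isT (clsI i)) = true ∧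
    ([48, 204, 60, 269, 303, 313, 1917, 589].all fun i =>
      !Nat.beq i 0 && Nat.beq (sqI i) 0 && !isT (clsI i)) = true ∧
    (commI 1905 48 && (commI 48 204 && (commI 338 1862 && (commI 338 204 && commI 1 204)))) = true := by
  decide +kernel

theorem conj_class {i : ℕ} (hi : i < 2048) (h0 : i ≠ 0) (hs : sqI i = 0) (c : Cfsg.Spor.HN) :
    IsConj Classes.T0 (c * psiHN (eS i) * c⁻¹) ↔ isT (clsI i) = true :=
  ⟨fun h => (class_entry hi h0 hs).1 (h.trans (isConj_iff.2 ⟨c, rfl⟩ : IsConj (psiHN (eS i)) _).symm),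
    fun h => ((class_entry hi h0 hs).2 h).trans (isConj_iff.2 ⟨c, rfl⟩)⟩

theorem isT_of {i : ℕ} (hi : i ∈ [1905, 860, 338, 1225, 1]) (c : Cfsg.Spor.HN) :
    IsConj Classes.T0 (c * psiHN (eS i) * c⁻¹) := by
  have h := List.all_eq_true.1 kinds_ok.1 i hi
  simp only [Bool.and_eq_true, Bool.not_eq_true', Nat.beq_eq] at h
  have hlt : i < 2048 := by simp only [List.mem_cons, List.not_mem_nil, or_false] at hi; omega
  have h0 : i ≠ 0 := fun e => by rw [e] at h; simp at h
  exact (conj_class hlt h0 h.1.2 c).2 h.2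

theorem notT_of {i : ℕ} (hi : i ∈ [48, 204, 60, 269, 303, 313, 1917, 589]) (c : Cfsg.Spor.HN) :
    ¬IsConj Classes.T0 (c * psiHN (eS i) * c⁻¹) := by
  have h := List.all_eq_true.1 kinds_ok.2.1 i hi
  simp only [Bool.and_eq_true, Bool.not_eq_true', Nat.beq_eq] at h
  have hlt : i < 2048 := by simp only [List.mem_cons, List.not_mem_nil, or_false] at hi; omega
  have h0 : i ≠ 0 := fun e => by rw [e] at h; simp at h
  rw [conj_class hlt h0 h.1.2 c, h.2]
  exact Bool.false_ne_true

/-- The facts of the end game from the classification of involutions and the two four-group statements. -/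
theorem facts
    (hclasses : ∀ y : Cfsg.Spor.HN, orderOf y = 2 → IsConj Classes.T0 y ∨ IsConj Classes.W0 y)
    (hfour : ∀ z : Cfsg.Spor.HN, orderOf z = 2 → Commute z Classes.T0 → Commute z Classes.W0 → z ≠ Classes.W0 →
      IsConj Classes.T0 (Classes.T0 * z) → ¬IsConj Classes.T0 z → ¬IsConj Classes.T0 (z * Classes.W0) →
      ∃ g : Cfsg.Spor.HN, g * Classes.W0 * g⁻¹ = V1 ∧ g * z * g⁻¹ = Classes.W0)
    (height : ∀ z : Cfsg.Spor.HN, orderOf z = 2 → z ≠ V1 → z ≠ Classes.W0 → z ≠ V1 * Classes.W0 →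
      Commute z Classes.T0 → Commute z V1 → Commute z Classes.W0 → IsConj Classes.T0 (Classes.T0 * z) →
      ¬IsConj Classes.T0 z → ¬IsConj Classes.T0 (z * V1) → ¬IsConj Classes.T0 (z * Classes.W0) →
      ¬IsConj Classes.T0 (z * (V1 * Classes.W0)) → ∀ s : Cfsg.Spor.HN, IsConj Classes.T0 s → Commute s V1 →
      Commute s Classes.W0 → Commute s z → IsConj Classes.T0 (s * (V1 * Classes.W0)) →
      ¬IsConj Classes.T0 (s * V1) → ¬IsConj Classes.T0 (s * Classes.W0) → False) :
    Facts Classes.T0 Classes.W0 V1 bb b0 := by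
  have hP := prods_ok
  simp only [okProds, List.all_cons, List.all_nil, Bool.and_eq_true, Bool.and_true] at hP
  obtain ⟨p1, p2, p3, p4, p5, p6, p7, p8, p9⟩ := hP
  obtain ⟨eT, eAT⟩ := special_values
  have hT : Classes.T0 = psiHN (eS 1905) := by
    rw [Classes.T0, ← special_spec.2.2.2.1, eT]
  have hW0 : Classes.W0 = psiHN (eS 204) := by rw [Classes.W0, eAT]
  have kT := kinds_ok.1; have kW := kinds_ok.2.1; have kC := kinds_ok.2.2
  simp only [Bool.and_eq_true] at kC
  obtain ⟨c1, c2, c3, c4, c5⟩ := kC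
  simp only [List.all_cons, List.all_nil, Bool.and_eq_true, Bool.not_eq_true', Bool.and_true, Nat.beq_eq] at kT kW
  have hw := word62_ok
  simp only [okWord62, Bool.and_eq_true] at hw
  obtain ⟨⟨-, hw1⟩, hw2⟩ := hw
  have e1 := el_eq hw1
  have e2 := el_eq hw2
  rw [el_append, el_append, el_winv] at e1
  rw [el_append, el_append] at e2
  set c := psiHN (el hW) with hc
  have cV : c * psiHN (eS 1862) * c⁻¹ = V1 := by
    rw [V1, hc, ← map_inv, ← map_mul, ← map_mul]
    refine congrArg psiHN ?_
    show el hW * eS 1862 * (el hW)⁻¹ = el (wd 48)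
    rw [show eS 1862 = el (wd 1862) from rfl, ← e1]
    group
  have cW : c * psiHN (eS 204) * c⁻¹ = Classes.W0 := by
    rw [hW0, hc, ← map_inv, ← map_mul, ← map_mul]
    refine congrArg psiHN ?_
    show el hW * el (wd 204) * (el hW)⁻¹ = el (wd 204)
    rw [e2, mul_inv_cancel_right]
  have hb : bb = c * psiHN (eS 338) * c⁻¹ := by rw [bb, map_mul, map_mul, map_inv]
  have mulc : ∀ x y : Cfsg.Spor.HN, c * x * c⁻¹ * (c * y * c⁻¹) = c * (x * y) * c⁻¹ := fun x y => by group
  have one_conj : ∀ x : Cfsg.Spor.HN, x = 1 * x * 1⁻¹ := fun x => by group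
  refine ⟨orderOf_T, ?_, ?_, ?_, ?_, ?_, ?_, ?_, ?_, ?_, ?_, ?_, ?_, ?_, ?_, ?_, ?_, ?_, ?_, ?_, hclasses, hfour,
    height⟩
  · rw [hW0]; exact orderOf_entry (by norm_num) (by norm_num) (by decide +kernel)
  · exact orderOf_entry (by norm_num) (by norm_num) (by decide +kernel)
  · exact (cent_T.2 ⟨_, rfl⟩).symm
  · exact (cent_T.2 ⟨_, rfl⟩).symm
  · rw [hW0]; exact commute_entry (by norm_num) (by norm_num) c2
  · rw [one_conj V1]; exact notT_of (by simp) 1
  · rw [hW0, V1, mul_entry (by norm_num) (by norm_num) (by norm_num) p1, one_conj (psiHN _)]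
    exact notT_of (by simp) 1
  · rw [hT, hW0, mul_entry (by norm_num) (by norm_num) (by norm_num) p2, ← hT, one_conj (psiHN _)]
    exact isT_of (by simp) 1
  · rw [hT, V1, mul_entry (by norm_num) (by norm_num) (by norm_num) p3, ← hT, one_conj (psiHN _)]
    exact notT_of (by simp) 1
  · rw [hT, hW0, V1, mul_entry (by norm_num) (by norm_num) (by norm_num) p1,
      mul_entry (by norm_num) (by norm_num) (by norm_num) p4, ← hT, one_conj (psiHN _)]
    exact notT_of (by simp) 1
  · rw [hb]; exact isT_of (by simp) c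
  · rw [hb, ← cV]; exact (commute_entry (by norm_num) (by norm_num) c3).map (MulAut.conj c).toMonoidHom
  · rw [hb, ← cW]; exact (commute_entry (by norm_num) (by norm_num) c4).map (MulAut.conj c).toMonoidHom
  · rw [hb, ← cV, ← cW, mulc, mulc, mul_entry (by norm_num) (by norm_num) (by norm_num) p6,
      mul_entry (by norm_num) (by norm_num) (by norm_num) p7]
    exact isT_of (by simp) c
  · rw [hb, ← cV, mulc, mul_entry (by norm_num) (by norm_num) (by norm_num) p8]
    exact notT_of (by simp) c
  · rw [hb, ← cW, mulc, mul_entry (by norm_num) (by norm_num) (by norm_num) p9]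
    exact notT_of (by simp) c
  · rw [one_conj b0]; exact isT_of (by simp) 1
  · rw [hW0]; exact commute_entry (by norm_num) (by norm_num) c5
  · rw [hW0, b0, mul_entry (by norm_num) (by norm_num) (by norm_num) p5, one_conj (psiHN _)]
    exact notT_of (by simp) 1

end

end Cfsg.Agent.HNRecog.End
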