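import Cfsg.Agent.Lib.HNRecog.End.Basic
import Mathlib.GroupTheory.Sylow
import Mathlib.GroupTheory.Nilpotent

/-!
The centralisers of the four-group and of the second class lie in the image.
-/

set_option autoImplicit false

namespace Cfsg.Agent.HNRecog.End

universe u v

variable {P : Type u} [Group P] {G : Type v} [Group G] [Finite G] {T0 W0 V1 b b0 : P}

namespace Setting

variable {D : Facts T0 W0 V1 b b0} {F : P →* G} (S : Setting D F)

include S

theorem sq_F {y : P} (hy : orderOf y = 2) : F y * F y = 1 := by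
  rw [← map_mul, ← sq, ← hy, pow_orderOf_eq_one, map_one]

theorem isConj_mul {g x y : G} (hx : Commute g y) (h : IsConj (F T0) (x * y)) :
    IsConj (F T0) (g * x * g⁻¹ * y) := by
  refine h.trans (isConj_iff.2 ⟨g, ?_⟩)
  calc g * (x * y) * g⁻¹ = g * x * (y * g⁻¹) := by group
    _ = g * x * g⁻¹ * y := by rw [hx.symm.inv_right.eq]; group

theorem isConj_mul_iff {g x y : G} (hx : Commute g y) :
    IsConj (F T0) (g * x * g⁻¹ * y) ↔ IsConj (F T0) (x * y) := by
  refine ⟨fun h => ?_, S.isConj_mul hx⟩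
  have := S.isConj_mul (g := g⁻¹) hx.inv_left h
  simpa [mul_assoc] using this

/-- A Sylow 2-subgroup through an involution of the class of `t` of the image lies in the image. -/
theorem two_group_le {K : Subgroup G} (R : Sylow 2 K) {a : K} (ha : a ∈ (R : Subgroup K))
    (hH : (a : G) ∈ F.range) (ht : IsConj (F T0) (a : G)) {x : K} (hx : x ∈ (R : Subgroup K)) :
    (x : G) ∈ F.range := by
  set R' : Subgroup (R : Subgroup K) := F.range.comap (K.subtype.comp (R : Subgroup K).subtype) with hR'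
  haveI : Fact (Nat.Prime 2) := ⟨Nat.prime_two⟩
  haveI : Group.IsNilpotent (R : Subgroup K) := R.isPGroup'.isNilpotent
  by_contra hxH
  have hne : R' < ⊤ := lt_top_iff_ne_top.2 fun h => hxH (by
    have : (⟨x, hx⟩ : (R : Subgroup K)) ∈ R' := h ▸ Subgroup.mem_top _
    exact this)
  obtain ⟨n, hn, hn'⟩ := SetLike.exists_of_lt (Group.normalizerCondition_of_isNilpotent R' hne)
  refine hn' (S.mem_of_conj hH ht ?_)
  have h := (Subgroup.mem_normalizer_iff.1 hn ⟨a, ha⟩).1 hH
  exact h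

/-- The centraliser of the four-group lies in the image. -/
theorem cent_four {k : G} (h1 : Commute k (F V1)) (h2 : Commute k (F W0)) : k ∈ F.range := by
  by_contra hk
  set s := k * F b * k⁻¹ with hs
  have htb : IsConj (F T0) (F b) := F.map_isConj D.b_conj
  have hts : IsConj (F T0) s := htb.trans (isConj_iff.2 ⟨k, rfl⟩)
  have hsH : s ∉ F.range := fun h => hk (S.mem_of_conj ⟨b, rfl⟩ htb h)
  have hb2 : orderOf b = 2 := by
    obtain ⟨c, rfl⟩ := isConj_iff.1 D.b_conj
    exact ((MulAut.conj c).orderOf_eq _).trans D.T_ord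
  have hs2 : s * s = 1 := by rw [hs, conj_mul, S.sq_F hb2, mul_one, mul_inv_cancel]
  have hconj : ∀ {x y : G}, Commute x y → Commute k y → Commute (k * x * k⁻¹) y := fun {x y} hxy hky =>
    (hky.mul_left hxy).mul_left hky.inv_left
  have csV : Commute s (F V1) := hconj (D.bV.map F) h1
  have csW : Commute s (F W0) := hconj (D.bW.map F) h2
  have nbW : ¬IsConj (F T0) (s * F W0) := fun h => by
    have h' := (S.isConj_mul_iff h2).1 h
    rw [← map_mul] at h'
    refine D.nbW ((S.conj_iff ?_).1 h')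
    obtain ⟨c, hc⟩ := isConj_iff.1 h'
    rw [← S.orderOf_F, ← hc]
    exact ((MulAut.conj c).orderOf_eq _).trans ((S.orderOf_F _).trans D.T_ord)
  rcases dihedral_cases (S.sq_F D.T_ord) hs2 with ⟨g, hg, hgc⟩ | ⟨z, hz2, hza, hzs, hzc, hzt, hzt'⟩
  · refine nbW (hg ▸ S.isConj_mul (hgc _ (D.TW.map F).symm csW.symm) ?_)
    rw [← map_mul]; exact F.map_isConj D.TW_conj
  have htaz : IsConj (F T0) (F T0 * z) := hzt.elim id fun h => hts.trans h
  have htsz : IsConj (F T0) (s * z) := hzt'.elim id fun h => hts.trans h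
  obtain ⟨z0, rfl⟩ : z ∈ F.range := S.cent (Subgroup.mem_centralizer_singleton_iff.2 hza.eq)
  rw [S.orderOf_F] at hz2
  have cT : Commute z0 T0 := S.commute_F.1 hza
  have cV : Commute z0 V1 := S.commute_F.1 (hzc _ (D.TV.map F).symm csV.symm)
  have cW : Commute z0 W0 := S.commute_F.1 (hzc _ (D.TW.map F).symm csW.symm)
  rw [← map_mul] at htaz
  have hT0z : IsConj T0 (T0 * z0) := by
    refine (S.conj_iff ?_).1 htaz
    obtain ⟨c, hc⟩ := isConj_iff.1 htaz
    rw [← S.orderOf_F, ← hc]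
    exact ((MulAut.conj c).orderOf_eq _).trans ((S.orderOf_F _).trans D.T_ord)
  have ne1 : z0 ≠ V1 := fun h => D.nTV (h ▸ hT0z)
  have ne2 : z0 ≠ V1 * W0 := fun h => D.nTVW (h ▸ hT0z)
  have ne3 : z0 ≠ W0 := fun h => nbW (h ▸ htsz)
  -- no product of `z` with an element of the four-group is of the class of `t`
  have pure : ∀ v : P, Commute (F v) s → ¬IsConj T0 (z0 * v) := fun v hv h => hsH (S.mem_of_commute
    ⟨z0 * v, rfl⟩ (F.map_isConj h) (by rw [map_mul]; exact hzs.symm.mul_right hv.symm))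
  have p0 : ¬IsConj T0 z0 := by have := pure 1 (by rw [map_one]; exact Commute.one_left s); rwa [mul_one] at this
  have p1 := pure V1 csV.symm
  have p2 := pure W0 csW.symm
  have p3 := pure (V1 * W0) (by rw [map_mul]; exact csV.symm.mul_left csW.symm)
  -- a conjugate of `s` inside the image
  set K : Subgroup G := Subgroup.centralizer {F V1, F W0, F z0} with hK
  have memK : ∀ g : G, g ∈ K ↔ Commute g (F V1) ∧ Commute g (F W0) ∧ Commute g (F z0) := fun g => by
    rw [hK, Subgroup.mem_centralizer_iff]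
    simp only [Set.mem_insert_iff, Set.mem_singleton_iff, forall_eq_or_imp, forall_eq]
    exact ⟨fun ⟨a, b, c⟩ => ⟨a.symm, b.symm, c.symm⟩, fun ⟨a, b, c⟩ => ⟨a.symm, b.symm, c.symm⟩⟩
  have haK : F T0 ∈ K := (memK _).2 ⟨D.TV.map F, D.TW.map F, (cT.map F).symm⟩
  have hsK : s ∈ K := (memK _).2 ⟨csV, csW, hzs.symm⟩
  haveI : Fact (Nat.Prime 2) := ⟨Nat.prime_two⟩
  have two : ∀ x : K, (x : G) * x = 1 → IsPGroup 2 (Subgroup.zpowers x) := fun x hx => by
    rcases eq_or_ne x 1 with rfl | h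
    · rw [Subgroup.zpowers_one_eq_bot]; exact IsPGroup.of_bot
    · refine IsPGroup.of_card (n := 1) ?_
      rw [Nat.card_zpowers, pow_one]
      exact orderOf_two (Subtype.ext hx) h
  obtain ⟨R, hR⟩ := (two ⟨F T0, haK⟩ (S.sq_F D.T_ord)).exists_le_sylow
  obtain ⟨R₂, hR₂⟩ := (two ⟨s, hsK⟩ hs2).exists_le_sylow
  obtain ⟨g, hg⟩ := MulAction.exists_smul_eq K R₂ R
  have hgs : g * ⟨s, hsK⟩ * g⁻¹ ∈ (R : Subgroup K) := by
    rw [← hg, Sylow.coe_subgroup_smul]
    exact ⟨⟨s, hsK⟩, hR₂ (Subgroup.mem_zpowers _), rfl⟩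
  obtain ⟨s0, hs0⟩ := S.two_group_le R (hR (Subgroup.mem_zpowers _)) ⟨T0, rfl⟩ (IsConj.refl _) hgs
  simp only [Subgroup.coe_mul, Subgroup.coe_inv] at hs0
  obtain ⟨gV, gW, gz⟩ := (memK _).1 g.2
  have cs0 : ∀ y : P, Commute (g : G) (F y) → Commute s (F y) → Commute s0 y := fun y hgy hsy =>
    S.commute_F.1 (hs0 ▸ (hgy.mul_left hsy).mul_left hgy.inv_left)
  have ts0' : IsConj (F T0) (F s0) := hs0 ▸ hts.trans (isConj_iff.2 ⟨g, rfl⟩)
  have hord : ∀ {p : P}, IsConj (F T0) (F p) → orderOf p = 2 := fun {p} h => by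
    obtain ⟨c, hc⟩ := isConj_iff.1 h
    rw [← S.orderOf_F p, ← hc]
    exact ((MulAut.conj c).orderOf_eq _).trans ((S.orderOf_F _).trans D.T_ord)
  have ts0 : IsConj T0 s0 := (S.conj_iff (hord ts0')).1 ts0'
  have prof : ∀ y : P, Commute (g : G) (F y) → Commute k (F y) →
      (IsConj T0 (s0 * y) ↔ IsConj T0 (b * y)) := by
    intro y hgy hky
    have e : IsConj (F T0) (F (s0 * y)) ↔ IsConj (F T0) (F (b * y)) := by
      rw [map_mul, map_mul, hs0, S.isConj_mul_iff hgy, hs, S.isConj_mul_iff hky]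
    exact ⟨fun h => (S.conj_iff (hord (e.1 (F.map_isConj h)))).1 (e.1 (F.map_isConj h)),
      fun h => (S.conj_iff (hord (e.2 (F.map_isConj h)))).1 (e.2 (F.map_isConj h))⟩
  refine D.eight z0 hz2 ne1 ne3 ne2 cT cV cW hT0z p0 p1 p2 p3 s0 ts0 (cs0 _ gV csV) (cs0 _ gW csW)
    (cs0 _ gz hzs.symm) ((prof _ ?_ ?_).2 D.b_VW) (fun h => D.nbV ((prof _ gV h1).1 h))
    (fun h => D.nbW ((prof _ gW h2).1 h))
  · rw [map_mul]; exact gV.mul_right gW
  · rw [map_mul]; exact h1.mul_right h2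

/-- The centraliser of the second involution lies in the image. -/
theorem cent_W {k : G} (h2 : Commute k (F W0)) : k ∈ F.range := by
  by_contra hk
  set s := k * F b0 * k⁻¹ with hs
  have htb : IsConj (F T0) (F b0) := F.map_isConj D.b0_conj
  have hts : IsConj (F T0) s := htb.trans (isConj_iff.2 ⟨k, rfl⟩)
  have hsH : s ∉ F.range := fun h => hk (S.mem_of_conj ⟨b0, rfl⟩ htb h)
  have hord : ∀ {p : P}, IsConj (F T0) (F p) → orderOf p = 2 := fun {p} h => by
    obtain ⟨c, hc⟩ := isConj_iff.1 h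
    rw [← S.orderOf_F p, ← hc]
    exact ((MulAut.conj c).orderOf_eq _).trans ((S.orderOf_F _).trans D.T_ord)
  have hs2 : s * s = 1 := by rw [hs, conj_mul, S.sq_F (hord htb), mul_one, mul_inv_cancel]
  have csW : Commute s (F W0) := (h2.mul_left (D.b0W.map F)).mul_left h2.inv_left
  have nbW : ¬IsConj (F T0) (s * F W0) := fun h => by
    have h' := (S.isConj_mul_iff h2).1 h
    rw [← map_mul] at h'
    exact D.nb0W ((S.conj_iff (hord h')).1 h')
  rcases dihedral_cases (S.sq_F D.T_ord) hs2 with ⟨g, hg, hgc⟩ | ⟨z, hz2, hza, hzs, hzc, hzt, hzt'⟩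
  · refine nbW (hg ▸ S.isConj_mul (hgc _ (D.TW.map F).symm csW.symm) ?_)
    rw [← map_mul]; exact F.map_isConj D.TW_conj
  have htaz : IsConj (F T0) (F T0 * z) := hzt.elim id fun h => hts.trans h
  have htsz : IsConj (F T0) (s * z) := hzt'.elim id fun h => hts.trans h
  obtain ⟨z0, rfl⟩ : z ∈ F.range := S.cent (Subgroup.mem_centralizer_singleton_iff.2 hza.eq)
  rw [S.orderOf_F] at hz2
  have cW : Commute z0 W0 := S.commute_F.1 (hzc _ (D.TW.map F).symm csW.symm)
  rw [← map_mul] at htaz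
  have p0 : ¬IsConj T0 z0 := fun h => hsH (S.mem_of_commute ⟨z0, rfl⟩ (F.map_isConj h) hzs.symm)
  have p2 : ¬IsConj T0 (z0 * W0) := fun h => hsH (S.mem_of_commute ⟨z0 * W0, rfl⟩ (F.map_isConj h)
    (by rw [map_mul]; exact hzs.symm.mul_right csW))
  obtain ⟨c, hc1, hc2⟩ := D.four z0 hz2 (S.commute_F.1 hza) cW (fun h => nbW (h ▸ htsz))
    ((S.conj_iff (hord htaz)).1 htaz) p0 p2
  refine hsH ?_
  have key : F c * s * (F c)⁻¹ ∈ F.range := by
    refine S.cent_four ?_ ?_
    · rw [← hc1, map_mul, map_mul, map_inv]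
      exact csW.map (MulAut.conj (F c)).toMonoidHom
    · rw [← hc2, map_mul, map_mul, map_inv]
      exact hzs.symm.map (MulAut.conj (F c)).toMonoidHom
  simpa [mul_assoc] using F.range.mul_mem (F.range.mul_mem (F.range.inv_mem ⟨c, rfl⟩) key) ⟨c, rfl⟩

/-- The image is everything. -/
theorem surjective [IsSimpleGroup G] : Function.Surjective F := by
  rw [← MonoidHom.range_eq_top]
  by_contra hne
  obtain ⟨x, hxt, hx⟩ : ∃ x, IsConj (F T0) x ∧ x ∉ F.range := by
    by_contra hall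
    push Not at hall
    have hle : Subgroup.normalClosure ({F T0} : Set G) ≤ F.range :=
      Subgroup.closure_le _ |>.2 fun y hy => by
        obtain ⟨a, ha, hay⟩ := Group.mem_conjugatesOfSet_iff.1 hy
        rw [Set.mem_singleton_iff.1 ha] at hay
        exact hall y hay
    rcases (Subgroup.normalClosure_normal (s := ({F T0} : Set G))).eq_bot_or_eq_top with h | h
    · have h1 : F T0 ∈ Subgroup.normalClosure ({F T0} : Set G) :=
        Subgroup.subset_normalClosure (Set.mem_singleton _)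
      rw [h, Subgroup.mem_bot, ← orderOf_eq_one_iff, S.orderOf_F, D.T_ord] at h1
      omega
    · exact hne (top_le_iff.1 (h ▸ hle))
  obtain ⟨c, hc⟩ := isConj_iff.1 hxt
  have hx2 : x * x = 1 := by rw [← hc, conj_mul, S.sq_F D.T_ord, mul_one, mul_inv_cancel]
  rcases dihedral_cases (S.sq_F D.W_ord) hx2 with ⟨g, hg, -⟩ | ⟨z, hz2, hzw, hzx, -⟩
  · exact S.nconj (hxt.trans (isConj_iff.2 ⟨g, hg⟩ : IsConj (F W0) x).symm)
  obtain ⟨z0, rfl⟩ := S.cent_W hzw
  rw [S.orderOf_F] at hz2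
  refine hx ?_
  rcases D.classes z0 hz2 with h | h
  · exact S.mem_of_commute ⟨z0, rfl⟩ (F.map_isConj h) hzx.symm
  · obtain ⟨d, rfl⟩ := isConj_iff.1 h
    have key : (F d)⁻¹ * x * F d ∈ F.range := by
      refine S.cent_W ?_
      have e := hzx.symm.map (MulAut.conj (F d)⁻¹).toMonoidHom
      simpa [mul_assoc] using e
    simpa [mul_assoc] using F.range.mul_mem (F.range.mul_mem ⟨d, rfl⟩ key) (F.range.inv_mem ⟨d, rfl⟩)

end Setting

end Cfsg.Agent.HNRecog.End
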