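import Mathlib

/-!
Two involutions: either an element fixing everything fixed by both moves the first to the second, or an
involution commutes with both and its products with them are conjugate to one of them.
-/

set_option autoImplicit false

namespace Cfsg.Agent.HNRecog.End

variable {G : Type*} [Group G]

theorem invol_inv {a : G} (ha : a * a = 1) : a⁻¹ = a := inv_eq_of_mul_eq_one_right ha

theorem orderOf_two {a : G} (ha : a * a = 1) (h1 : a ≠ 1) : orderOf a = 2 := by
  haveI : Fact (Nat.Prime 2) := ⟨Nat.prime_two⟩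
  exact orderOf_eq_prime (by rw [pow_two, ha]) h1

theorem flip_rot {a s : G} (ha : a * a = 1) (hs : s * s = 1) : a * (a * s) * a⁻¹ = (a * s)⁻¹ := by
  rw [mul_inv_rev, invol_inv ha, invol_inv hs, ← mul_assoc a a s, ha, one_mul]

/-- Every reflection `a r^k`, `r = a s`, is conjugate to `a` or to `s`. -/
theorem refl_conj {a s : G} (ha : a * a = 1) (hs : s * s = 1) (k : ℕ) :
    IsConj a (a * (a * s) ^ k) ∨ IsConj s (a * (a * s) ^ k) := by
  set r := a * s with hr
  have hf : ∀ i : ℕ, a * r ^ i = (r ^ i)⁻¹ * a := fun i => by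
    have : a * r ^ i * a⁻¹ = (r ^ i)⁻¹ := by rw [← conj_pow, flip_rot ha hs, inv_pow]
    rw [← this, inv_mul_cancel_right]
  obtain ⟨i, rfl⟩ | ⟨i, rfl⟩ := Nat.even_or_odd k
  · refine Or.inl (isConj_iff.2 ⟨(r ^ i)⁻¹, ?_⟩)
    rw [inv_inv, pow_add, ← mul_assoc a, hf]
  · refine Or.inr (isConj_iff.2 ⟨(r ^ i)⁻¹, ?_⟩)
    have e : s = a * r := by rw [hr, ← mul_assoc, ha, one_mul]
    calc (r ^ i)⁻¹ * s * (r ^ i)⁻¹⁻¹ = (r ^ i)⁻¹ * (a * r) * r ^ i := by rw [inv_inv, e]
      _ = (r ^ i)⁻¹ * a * (r * r ^ i) := by group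
      _ = a * r ^ i * (r * r ^ i) := by rw [hf]
      _ = a * (r ^ i * r ^ 1 * r ^ i) := by rw [pow_one]; group
      _ = a * r ^ (2 * i + 1) := by rw [← pow_add, ← pow_add]; congr 2; omega

/-- The two cases for a pair of involutions. -/
theorem dihedral_cases [Finite G] {a s : G} (ha : a * a = 1) (hs : s * s = 1) :
    (∃ g, g * a * g⁻¹ = s ∧ ∀ c, Commute c a → Commute c s → Commute g c) ∨
      ∃ z, orderOf z = 2 ∧ Commute z a ∧ Commute z s ∧ (∀ c, Commute c a → Commute c s → Commute z c) ∧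
        (IsConj a (a * z) ∨ IsConj s (a * z)) ∧ (IsConj a (s * z) ∨ IsConj s (s * z)) := by
  set r := a * s with hr
  have hcomm : ∀ (i : ℕ) (c : G), Commute c a → Commute c s → Commute (r ^ i) c := fun i c h1 h2 =>
    ((h1.mul_right h2).pow_right i).symm
  obtain ⟨j, hj⟩ | ⟨i, hi⟩ := Nat.even_or_odd (orderOf r)
  · have hpos : 0 < orderOf r := orderOf_pos r
    have hz2 : r ^ j * r ^ j = 1 := by rw [← pow_add, ← hj, pow_orderOf_eq_one]
    have hza : Commute (r ^ j) a := by
      show r ^ j * a = a * r ^ j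
      have : a * r ^ j * a⁻¹ = (r ^ j)⁻¹ := by rw [← conj_pow, flip_rot ha hs, inv_pow]
      rw [invol_inv hz2, mul_inv_eq_iff_eq_mul] at this
      exact this.symm
    have hzr : Commute (r ^ j) r := (Commute.refl r).pow_left j
    have e : s = a * r := by rw [hr, ← mul_assoc, ha, one_mul]
    have hzs : Commute (r ^ j) s := by rw [e]; exact hza.mul_right hzr
    refine Or.inr ⟨r ^ j, orderOf_two hz2 fun h => ?_, hza, hzs, fun c => hcomm j c,
      refl_conj ha hs j, ?_⟩
    · have := orderOf_le_of_pow_eq_one (by omega) h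
      omega
    · have : s * r ^ j = a * r ^ (j + 1) := by rw [e, pow_succ', mul_assoc]
      rw [this]
      exact refl_conj ha hs (j + 1)
  · refine Or.inl ⟨r ^ i, ?_, fun c => hcomm i c⟩
    have hf : a * (r ^ i)⁻¹ = r ^ i * a := by
      have : a * (r ^ i)⁻¹ * a⁻¹ = r ^ i := by
        rw [← conj_inv, ← conj_pow, flip_rot ha hs, inv_pow, inv_inv]
      rw [← this, inv_mul_cancel_right, this]
    have h1 : r ^ i * r ^ i = r⁻¹ := eq_inv_of_mul_eq_one_left (by
      rw [← pow_add, ← pow_succ, show i + i + 1 = orderOf r by omega, pow_orderOf_eq_one])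
    calc r ^ i * a * (r ^ i)⁻¹ = r ^ i * (a * (r ^ i)⁻¹) := mul_assoc _ _ _
      _ = r ^ i * r ^ i * a := by rw [hf, mul_assoc]
      _ = r⁻¹ * a := by rw [h1]
      _ = s := by rw [hr, mul_inv_rev, mul_assoc, inv_mul_cancel, mul_one, invol_inv hs]

end Cfsg.Agent.HNRecog.End
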