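import Cfsg.Agent.Lib.HNRecog.End.Cent
import Cfsg.Agent.Lib.HNRecog.Local.Main
import Cfsg.Agent.Lib.HNRecog.Classes.Core
import Cfsg.Agent.Lib.HNRecog.Consequences

/-!
From an embedding of the presented group extending the identification of the centraliser: the isomorphism and
its consequences, given the facts about the involution classes of the presented group.
-/

set_option autoImplicit false

namespace Cfsg.Agent.HNRecog.End

open Cfsg.Agent.HN

noncomputable section

universe u

variable {G : Type u} [Group G] [Finite G] [IsSimpleGroup G] {t : G} {V1 b b0 : Cfsg.Spor.HN}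

/-- The embedding and the identification give a setting. -/
theorem setting (D : Facts Classes.T0 Classes.W0 V1 b b0) (ψ : H0 →* G)
    (hran : ψ.range = Subgroup.centralizer ({t} : Set G)) (hsq : ψ (hx ^ 2) = t)
    (hat : ¬IsConj t (ψ elAT)) (F : Cfsg.Spor.HN →* G) (hF : Function.Injective F)
    (hFψ : F.comp psiHN = ψ) : Setting D F := by
  have e : ∀ y, F (psiHN y) = ψ y := fun y => DFunLike.congr_fun hFψ y
  refine ⟨hF, ?_, ?_⟩
  · intro g hg
    rw [Classes.T0, e, hsq, ← hran] at hg
    obtain ⟨y, rfl⟩ := hg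
    exact ⟨psiHN y, e y⟩
  · rw [Classes.T0, Classes.W0, e, e, hsq]
    exact hat

/-- The isomorphism with the presented group. -/
theorem isoHN_of_embedding (D : Facts Classes.T0 Classes.W0 V1 b b0) (ψ : H0 →* G)
    (hran : ψ.range = Subgroup.centralizer ({t} : Set G)) (hsq : ψ (hx ^ 2) = t)
    (hat : ¬IsConj t (ψ elAT)) (F : Cfsg.Spor.HN →* G) (hF : Function.Injective F)
    (hFψ : F.comp psiHN = ψ) : Cfsg.Spor.IsoHN G :=
  ⟨(MulEquiv.ofBijective F ⟨hF, (setting D ψ hran hsq hat F hF hFψ).surjective⟩).symm⟩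

/-- A group isomorphic to the presented group has exactly two classes of involutions. -/
theorem two_classes_of_isoHN {H : Type u} [Group H] (h : Cfsg.Spor.IsoHN H)
    (hT : orderOf Classes.T0 = 2) (hW : orderOf Classes.W0 = 2) (hne : ¬IsConj Classes.T0 Classes.W0)
    (hcl : ∀ y : Cfsg.Spor.HN, orderOf y = 2 → IsConj Classes.T0 y ∨ IsConj Classes.W0 y) :
    ∃ x y : H, orderOf x = 2 ∧ orderOf y = 2 ∧ ¬IsConj x y ∧
      ∀ z : H, orderOf z = 2 → IsConj z x ∨ IsConj z y := by
  obtain ⟨e⟩ := h
  refine ⟨e.symm Classes.T0, e.symm Classes.W0, (e.symm.orderOf_eq _).trans hT,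
    (e.symm.orderOf_eq _).trans hW, fun hc => hne ?_, fun z hz => ?_⟩
  · have := e.toMonoidHom.map_isConj hc
    simpa using this
  · have := hcl (e z) ((e.orderOf_eq z).trans hz)
    refine this.imp (fun h => ?_) (fun h => ?_) <;>
    · have := e.symm.toMonoidHom.map_isConj h.symm
      simpa using this

end

end Cfsg.Agent.HNRecog.End
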